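import Cfsg.Agent.Small.Counting
import Cfsg.Agent.Linear.Basic
import Cfsg.Agent.S0731
import Cfsg.Prelude.Def_LieExceptional

/-!
# `PSL(2, q)` by its order and self-centralising Sylow subgroups

A group of order `q (q² - 1) / 2`, `q = p ^ f ≡ 1 (mod 4)`, whose Sylow `p`-subgroups are abelian and contain
the centralisers of their non-trivial elements, has `q + 1` of them and is a Zassenhaus group on them.
-/

set_option autoImplicit false
set_option linter.style.haveILetI false
set_option linter.unusedSectionVars false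

namespace CfsgLib.PSLTwoCC

open MulAction
open scoped MatrixGroups

/-- The order of `PSL(2, p ^ f)` and abelian Sylow `p`-subgroups containing the centralisers of their
non-trivial elements. -/
structure Data (G : Type*) [Group G] (p f : ℕ) : Prop where
  prime : p.Prime
  q_mod : p ^ f % 4 = 1
  q_ge : 5 ≤ p ^ f
  card : 2 * Nat.card G = p ^ f * ((p ^ f - 1) * (p ^ f + 1))
  comm : ∀ (P : Sylow p G), ∀ x ∈ (P : Subgroup G), ∀ y ∈ (P : Subgroup G), x * y = y * x
  cc : ∀ u : G, orderOf u = p → IsPGroup p (Subgroup.centralizer ({u} : Set G))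

variable {G : Type*} [Group G] [Finite G] {p f : ℕ}

namespace Data

theorem f_pos (h : Data G p f) : 1 ≤ f := by
  by_contra hf
  have := h.q_ge
  rw [show f = 0 by omega, pow_zero] at this
  omega

theorem p_ne_two (h : Data G p f) : p ≠ 2 := fun e => by
  have hf : f ≠ 0 := Nat.one_le_iff_ne_zero.1 h.f_pos
  have h1 : 2 ∣ p ^ f := by rw [e]; exact dvd_pow_self 2 hf
  have := h.q_mod
  omega

theorem not_dvd (h : Data G p f) : ¬ p ∣ p ^ f + 1 ∧ ¬ p ∣ p ^ f - 1 := by
  have hd : p ∣ p ^ f := dvd_pow_self p (by have := h.f_pos; omega)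
  have := h.q_ge
  refine ⟨fun h' => h.prime.not_dvd_one ((Nat.dvd_add_right hd).1 h'), fun h' => h.prime.not_dvd_one ?_⟩
  have h3 := Nat.dvd_sub hd h'
  rwa [Nat.sub_sub_self (by omega : 1 ≤ p ^ f)] at h3

variable [Fact p.Prime]

theorem card_sylow (h : Data G p f) (P : Sylow p G) : Nat.card (P : Subgroup G) = p ^ f := by
  obtain ⟨n, hn⟩ := IsPGroup.iff_card.1 P.isPGroup'
  have hcop2 : Nat.Coprime p 2 := (Nat.coprime_primes h.prime Nat.prime_two).2 h.p_ne_two
  have hcop : Nat.Coprime p ((p ^ f - 1) * (p ^ f + 1)) :=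
    Nat.Coprime.mul_right (h.prime.coprime_iff_not_dvd.2 h.not_dvd.2)
      (h.prime.coprime_iff_not_dvd.2 h.not_dvd.1)
  have hcard := h.card
  rw [← (P : Subgroup G).card_mul_index, hn] at hcard
  rw [hn]
  refine Nat.dvd_antisymm ?_ ?_
  · refine (Nat.Coprime.pow_left n hcop).dvd_of_dvd_mul_right ?_
    rw [← hcard]
    exact (dvd_mul_right _ _).mul_left _
  · refine (Nat.Coprime.pow_left f
      (hcop2.mul_right (h.prime.coprime_iff_not_dvd.2 P.not_dvd_index))).dvd_of_dvd_mul_right ?_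
    rw [show p ^ n * (2 * (P : Subgroup G).index) = 2 * (p ^ n * (P : Subgroup G).index) by ring, hcard]
    exact dvd_mul_right _ _

theorem centralizer_eq (h : Data G p f) {P : Sylow p G} {u : G} (hu : u ∈ (P : Subgroup G))
    (hu1 : u ≠ 1) : Subgroup.centralizer ({u} : Set G) = (P : Subgroup G) := by
  obtain ⟨k, hk⟩ := IsPGroup.iff_orderOf.1 P.isPGroup' ⟨u, hu⟩
  rw [Subgroup.orderOf_mk] at hk
  have hk0 : k ≠ 0 := fun e => hu1 (orderOf_eq_one_iff.1 (by rw [hk, e, pow_zero]))
  have hv : orderOf (u ^ (orderOf u / p)) = p :=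
    orderOf_pow_orderOf_div (orderOf_pos u).ne' (hk ▸ dvd_pow_self p hk0)
  refine P.3 ((h.cc _ hv).to_le fun y hy => ?_) fun y hy =>
    Subgroup.mem_centralizer_singleton_iff.2 (h.comm P y hy u hu)
  exact Subgroup.mem_centralizer_singleton_iff.2
    (Commute.pow_right (Subgroup.mem_centralizer_singleton_iff.1 hy) _).eq

theorem mem_of_commute (h : Data G p f) {P : Sylow p G} {u x : G} (hu : u ∈ (P : Subgroup G))
    (hu1 : u ≠ 1) (hc : Commute u x) : x ∈ (P : Subgroup G) := by
  rw [← h.centralizer_eq hu hu1]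
  exact Subgroup.mem_centralizer_singleton_iff.2 hc.symm.eq

theorem sylow_eq (h : Data G p f) {P R : Sylow p G} {u : G} (hP : u ∈ (P : Subgroup G))
    (hR : u ∈ (R : Subgroup G)) (hu1 : u ≠ 1) : P = R :=
  Sylow.ext ((h.centralizer_eq hP hu1).symm.trans (h.centralizer_eq hR hu1))

theorem eq_one_of_smul (h : Data G p f) {P R : Sylow p G} (hne : P ≠ R) {u : G}
    (hu : u ∈ (P : Subgroup G)) (hfix : u • R = R) : u = 1 := by
  have hmem : u ∈ (P : Subgroup G) ⊓ Subgroup.normalizer ((R : Subgroup G) : Set G) :=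
    ⟨hu, Sylow.smul_eq_iff_mem_normalizer.1 hfix⟩
  have hmem' : u ∈ (P : Subgroup G) ⊓ (R : Subgroup G) := by
    rwa [← P.isPGroup'.inf_normalizer_sylow R]
  by_contra hu1
  exact hne (h.sylow_eq hu hmem'.2 hu1)

theorem smul_self {P : Sylow p G} {u : G} (hu : u ∈ (P : Subgroup G)) : u • P = P :=
  Sylow.smul_eq_iff_mem_normalizer.2 (Subgroup.le_normalizer hu)

theorem card_sylow_modEq (h : Data G p f) (P : Sylow p G) :
    Nat.card (Sylow p G) ≡ 1 [MOD p ^ f] := by
  classical
  let Y : SubMulAction (P : Subgroup G) (Sylow p G) :=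
    { carrier := {R | R ≠ P}
      smul_mem' := fun g R hR hgR => hR (by
        have hgP : (g : G)⁻¹ • P = P := smul_self (inv_mem g.2)
        have hgR' : (g : G) • R = P := hgR
        exact (eq_inv_smul_iff.2 hgR').trans hgP) }
  have hfree : ∀ R : Y, stabilizer (P : Subgroup G) R = ⊥ := fun R =>
    (Subgroup.eq_bot_iff_forall _).2 fun g hg => Subtype.ext
      (h.eq_one_of_smul (Ne.symm R.2) g.2 (congrArg Subtype.val (mem_stabilizer_iff.1 hg)))
  have hY := Nat.card_congr (selfEquivOrbitsQuotientProd hfree)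
  rw [Nat.card_prod, h.card_sylow P] at hY
  have hsplit : Nat.card (Sylow p G) = Nat.card Y + 1 := by
    rw [← Finite.card_option]
    exact (Nat.card_congr (Equiv.optionSubtypeNe P)).symm
  rw [hsplit, hY, Nat.ModEq, Nat.add_mod, Nat.mul_mod_left, zero_add, Nat.mod_mod]

/-- `q + 1` Sylow subgroups; a complement in the normaliser has order `(q - 1) / 2`. -/
theorem sylow_data (h : Data G p f) (P : Sylow p G) :
    Nat.card (Sylow p G) = p ^ f + 1 ∧ ∃ K : Subgroup G,
      K ≤ Subgroup.normalizer ((P : Subgroup G) : Set G) ∧ Disjoint K (P : Subgroup G) ∧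
      2 * Nat.card K = p ^ f - 1 := by
  classical
  set N := Subgroup.normalizer ((P : Subgroup G) : Set G) with hN
  have hPN : Nat.card ((P : Subgroup G).subgroupOf N) = p ^ f := by
    rw [Nat.card_congr (Subgroup.subgroupOfEquivOfLe (H := (P : Subgroup G)) (K := N)
      Subgroup.le_normalizer).toEquiv, h.card_sylow P]
  have hcopN : Nat.Coprime (Nat.card ((P : Subgroup G).subgroupOf N))
      ((P : Subgroup G).subgroupOf N).index := by
    rw [hPN]
    refine Nat.Coprime.pow_left f (h.prime.coprime_iff_not_dvd.2 fun hd => ?_)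
    exact P.not_dvd_index (hd.trans (Subgroup.relIndex_dvd_index_of_le Subgroup.le_normalizer))
  obtain ⟨K₀, hK₀⟩ := Subgroup.exists_right_complement'_of_coprime hcopN
  set K := K₀.map N.subtype with hK
  have hKc : Nat.card K = ((P : Subgroup G).subgroupOf N).index := by
    rw [hK, ← Nat.card_congr (K₀.equivMapOfInjective _ N.subtype_injective).toEquiv,
      hK₀.symm.index_eq_card]
  have hdisj : Disjoint K (P : Subgroup G) := by
    rw [disjoint_iff, Subgroup.eq_bot_iff_forall]
    rintro _ ⟨⟨k, hk, rfl⟩, hkP⟩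
    have := Subgroup.mem_bot.1 (hK₀.disjoint.le_bot (Subgroup.mem_inf.2
      ⟨Subgroup.mem_subgroupOf.2 hkP, hk⟩))
    rw [this]; rfl
  have hKN : K ≤ N := Subgroup.map_subtype_le _
  set n := Nat.card (Sylow p G)
  set w := Nat.card K with hw
  have hnw : 2 * (n * w) = (p ^ f - 1) * (p ^ f + 1) := by
    have h1 : n * (w * p ^ f) = Nat.card G := by
      rw [show n = N.index from P.card_eq_index_normalizer, hKc, ← hPN, Subgroup.index_mul_card,
        Subgroup.index_mul_card]
    have h2 := h.card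
    rw [← h1] at h2
    refine Nat.eq_of_mul_eq_mul_left (pow_pos h.prime.pos f) ?_
    rw [← h2]; ring
  -- the complement is semiregular on the non-trivial elements of `P`
  obtain ⟨d, hd⟩ : ∃ d : ℕ, p ^ f - 1 = d * w := by
    let X := {x : G // x ∈ (P : Subgroup G) ∧ x ≠ 1}
    letI : MulAction K X :=
      { smul := fun k x => ⟨(k : G) * x.1 * (k : G)⁻¹,
          (Subgroup.mem_normalizer_iff.1 (hKN k.2) x.1).1 x.2.1, fun e => x.2.2 (conj_eq_one_iff.1 e)⟩
        one_smul := fun x => Subtype.ext (show (1 : G) * x.1 * (1 : G)⁻¹ = x.1 by group)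
        mul_smul := fun a b x => Subtype.ext (show (a : G) * b * x.1 * ((a : G) * b)⁻¹ =
          (a : G) * ((b : G) * x.1 * (b : G)⁻¹) * (a : G)⁻¹ by group) }
    have hfree : ∀ x : X, stabilizer K x = ⊥ := fun x =>
      (Subgroup.eq_bot_iff_forall _).2 fun k hk => by
        have hk' : (k : G) * x.1 * (k : G)⁻¹ = x.1 := congrArg Subtype.val (mem_stabilizer_iff.1 hk)
        have hkP : (k : G) ∈ (P : Subgroup G) :=
          h.mem_of_commute x.2.1 x.2.2 (mul_inv_eq_iff_eq_mul.1 hk').symm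
        exact Subtype.ext (Subgroup.mem_bot.1 (hdisj.le_bot ⟨k.2, hkP⟩))
    have hX := Nat.card_congr (selfEquivOrbitsQuotientProd hfree)
    rw [Nat.card_prod] at hX
    refine ⟨_, Eq.trans ?_ hX⟩
    have h1 : Nat.card X + 1 = Nat.card (P : Subgroup G) := by
      rw [← Finite.card_option]
      let e : X ≃ {x : (P : Subgroup G) // x ≠ 1} :=
        { toFun := fun x => ⟨⟨x.1, x.2.1⟩, fun e => x.2.2 (congrArg Subtype.val e)⟩
          invFun := fun x => ⟨x.1.1, x.1.2, fun e => x.2 (Subtype.ext e)⟩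
          left_inv := fun _ => rfl
          right_inv := fun _ => rfl }
      exact Nat.card_congr ((Equiv.optionCongr e).trans (Equiv.optionSubtypeNe (1 : (P : Subgroup G))))
    rw [h.card_sylow P] at h1
    omega
  have hq := h.q_ge
  have hw0 : 0 < w := Nat.card_pos
  have h2n : 2 * n = d * (p ^ f + 1) := by
    refine Nat.eq_of_mul_eq_mul_right hw0 ?_
    rw [mul_assoc, hnw, hd]; ring
  have hd2 : d = 2 := by
    have h1 : 2 * n ≡ 2 [MOD p ^ f] := by simpa using (h.card_sylow_modEq P).mul_left 2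
    rw [h2n] at h1
    have h3 : d * (p ^ f + 1) ≡ d [MOD p ^ f] := by
      rw [Nat.ModEq, mul_add, mul_one, mul_comm, Nat.mul_add_mod]
    have h4 := h3.symm.trans h1
    have hdle : d ≤ p ^ f - 1 := hd ▸ Nat.le_mul_of_pos_right d hw0
    rw [Nat.ModEq, Nat.mod_eq_of_lt (by omega : d < p ^ f), Nat.mod_eq_of_lt (by omega : 2 < p ^ f)] at h4
    exact h4
  subst hd2
  exact ⟨by omega, K, hKN, hdisj, hd.symm⟩

theorem exists_ne_sylow (h : Data G p f) (P : Sylow p G) : ∃ R : Sylow p G, R ≠ P := by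
  by_contra hc
  push Not at hc
  haveI : Subsingleton (Sylow p G) := ⟨fun a b => (hc a).trans (hc b).symm⟩
  have h1 := (h.sylow_data P).1
  rw [Nat.card_of_subsingleton P] at h1
  have := h.q_ge
  omega

/-- The Sylow subgroup acts regularly on the other Sylow subgroups. -/
theorem existsUnique_smul (h : Data G p f) {P R R' : Sylow p G} (hR : R ≠ P) (hR' : R' ≠ P) :
    ∃! u : (P : Subgroup G), (u : G) • R = R' := by
  classical
  haveI := Fintype.ofFinite (Sylow p G)
  haveI := Fintype.ofFinite (P : Subgroup G)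
  let φ : ↥(P : Subgroup G) → {S : Sylow p G // S ≠ P} := fun u =>
    ⟨(u : G) • R, fun e => hR (smul_left_cancel (u : G) (e.trans (smul_self u.2).symm))⟩
  have hinj : Function.Injective φ := by
    intro u v e
    have e' : (u : G) • R = (v : G) • R := congrArg Subtype.val e
    have h1 : ((v : G)⁻¹ * u) • R = R := by rw [mul_smul, e', inv_smul_smul]
    exact (Subtype.ext (inv_mul_eq_one.1
      (h.eq_one_of_smul (Ne.symm hR) (mul_mem (inv_mem v.2) u.2) h1))).symm
  have hbij : Function.Bijective φ := by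
    refine (Fintype.bijective_iff_injective_and_card _).2 ⟨hinj, ?_⟩
    rw [← Nat.card_eq_fintype_card, h.card_sylow P, Fintype.card_subtype_compl,
      Fintype.card_subtype_eq, ← Nat.card_eq_fintype_card, (h.sylow_data P).1, Nat.add_sub_cancel]
  obtain ⟨u, hu, huniq⟩ := hbij.existsUnique ⟨R', hR'⟩
  exact ⟨u, congrArg Subtype.val hu, fun v hv => huniq v (Subtype.ext hv)⟩

theorem two_pretransitive (h : Data G p f) : IsMultiplyPretransitive G (Sylow p G) 2 := by
  rw [is_two_pretransitive_iff]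
  intro a b c d hab hcd
  obtain ⟨g, hg⟩ := exists_smul_eq G a c
  obtain ⟨u, hu, -⟩ := h.existsUnique_smul (P := c) (R := g • b) (R' := d)
    (fun e => hab (smul_left_cancel g (hg.trans e.symm))) (Ne.symm hcd)
  exact ⟨(u : G) * g, by rw [mul_smul, hg, smul_self u.2], by rw [mul_smul, hu]⟩

theorem fix_three (h : Data G p f) (g : G) (a b c : Sylow p G) (hab : a ≠ b) (hbc : b ≠ c)
    (hac : a ≠ c) (ha : g • a = a) (hb : g • b = b) (hc : g • c = c) : g = 1 := by
  obtain ⟨⟨u, hu⟩, hub, -⟩ := h.existsUnique_smul (P := a) (R := b) (R' := c) (Ne.symm hab) (Ne.symm hac)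
  replace hub : u • b = c := hub
  have hu1 : u ≠ 1 := fun e => hbc (by rwa [e, one_smul] at hub)
  have hmem : u⁻¹ * (g * u * g⁻¹) ∈ (a : Subgroup G) := mul_mem (inv_mem hu)
    ((Subgroup.mem_normalizer_iff.1 (Sylow.smul_eq_iff_mem_normalizer.1 ha) u).1 hu)
  have hcomm : u⁻¹ * (g * u * g⁻¹) = 1 := h.eq_one_of_smul hab hmem (by
    rw [mul_smul, mul_smul, mul_smul, inv_smul_eq_iff.2 hb.symm, hub, hc, ← hub, inv_smul_smul])
  exact h.eq_one_of_smul hab (h.mem_of_commute hu hu1
    (mul_inv_eq_iff_eq_mul.1 (inv_mul_eq_one.1 hcomm).symm).symm) hb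

theorem faithful (h : Data G p f) : FaithfulSMul G (Sylow p G) := by
  refine ⟨fun {x y} hxy => ?_⟩
  obtain ⟨P⟩ : Nonempty (Sylow p G) := inferInstance
  obtain ⟨R, hR⟩ := h.exists_ne_sylow P
  have hS : ∀ S : Sylow p G, (y⁻¹ * x) • S = S := fun S => by rw [mul_smul, hxy, inv_smul_smul]
  obtain ⟨u, hu, hu1⟩ := (Subgroup.bot_or_exists_ne_one (P : Subgroup G)).resolve_left fun e => by
    have := h.card_sylow P
    rw [e, Subgroup.card_bot] at this
    have := h.q_ge
    omega
  exact (inv_mul_eq_one.1 (h.fix_three (y⁻¹ * x) P R (u • R) (Ne.symm hR)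
    (fun e => hu1 (h.eq_one_of_smul (Ne.symm hR) hu e.symm))
    (fun e => hR (smul_left_cancel u (e.symm.trans (smul_self hu).symm))) (hS _) (hS _) (hS _))).symm

/-- A two-point stabiliser has order at least `(q - 1) / 2`. -/
theorem le_card_stabilizer (h : Data G p f) {a b : Sylow p G} (hab : a ≠ b) :
    p ^ f - 1 ≤ 2 * Nat.card ↥(stabilizer G a ⊓ stabilizer G b) := by
  obtain ⟨-, K, hKN, hdisj, hK⟩ := h.sylow_data a
  have hKfix : ∀ k : K, (k : G) • a = a := fun k =>
    Sylow.smul_eq_iff_mem_normalizer.2 (hKN k.2)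
  choose u hu using fun k : K => (h.existsUnique_smul (P := a) (R := b) (R' := (k : G) • b)
    (Ne.symm hab) (fun e => hab (smul_left_cancel (k : G) ((hKfix k).trans e.symm)))).exists
  let φ : K → ↥(stabilizer G a ⊓ stabilizer G b) := fun k => ⟨(u k : G)⁻¹ * k,
    mem_stabilizer_iff.2 (by rw [mul_smul, hKfix, inv_smul_eq_iff, smul_self (u k).2]),
    mem_stabilizer_iff.2 (by rw [mul_smul, inv_smul_eq_iff, hu])⟩
  have hφ : Function.Injective φ := by
    intro k j e
    have e' : (u k : G)⁻¹ * k = (u j : G)⁻¹ * j := congrArg Subtype.val e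
    have h1 : (k : G) * (j : G)⁻¹ ∈ (a : Subgroup G) := by
      have h2 : (k : G) * (j : G)⁻¹ = (u k : G) * (u j : G)⁻¹ := by
        calc (k : G) * (j : G)⁻¹ = (u k : G) * ((u k : G)⁻¹ * k) * (j : G)⁻¹ := by group
          _ = _ := by rw [e']; group
      rw [h2]
      exact mul_mem (u k).2 (inv_mem (u j).2)
    exact Subtype.ext (mul_inv_eq_one.1 (Subgroup.mem_bot.1
      (hdisj.le_bot (Subgroup.mem_inf.2 ⟨mul_mem k.2 (inv_mem j.2), h1⟩))))
  rw [← hK]
  exact Nat.mul_le_mul le_rfl (Nat.card_le_card_of_injective φ hφ)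

/-- No normal subgroup acts regularly. -/
theorem exists_stabilizer_ne_bot (h : Data G p f) (N : Subgroup G) (hN : N.Normal)
    (hNt : IsPretransitive N (Sylow p G)) : ∃ a : Sylow p G, stabilizer N a ≠ ⊥ := by
  classical
  by_contra! hc
  obtain ⟨P⟩ : Nonempty (Sylow p G) := inferInstance
  have hNc : Nat.card N = p ^ f + 1 := by
    rw [← (h.sylow_data P).1, ← index_stabilizer_of_transitive N P, hc P, Subgroup.index_bot]
  have horb : ∀ n ∈ N, n ≠ 1 → ∀ m ∈ N, m ≠ 1 → ∃ u ∈ (P : Subgroup G), u * n * u⁻¹ = m := by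
    intro n hn hn1 m hm hm1
    let φ : ↥(P : Subgroup G) → {x : N // x ≠ 1} := fun u =>
      ⟨⟨(u : G) * n * (u : G)⁻¹, hN.conj_mem n hn u⟩,
        fun e => hn1 (conj_eq_one_iff.1 (congrArg Subtype.val e))⟩
    have hφ : Function.Injective φ := by
      intro u v e
      have e' : (u : G) * n * (u : G)⁻¹ = (v : G) * n * (v : G)⁻¹ :=
        congrArg Subtype.val (congrArg Subtype.val e)
      have hcm : Commute ((v : G)⁻¹ * u) n := by
        refine mul_inv_eq_iff_eq_mul.1 ?_
        calc (v : G)⁻¹ * u * n * ((v : G)⁻¹ * u)⁻¹ = (v : G)⁻¹ * ((u : G) * n * (u : G)⁻¹) * v := by group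
          _ = n := by rw [e']; group
      by_contra hne
      have hnP := h.mem_of_commute (mul_mem (inv_mem v.2) u.2)
        (fun e0 => hne (Subtype.ext (inv_mul_eq_one.1 e0)).symm) hcm
      refine hn1 (orderOf_eq_one_iff.1 (Nat.eq_one_of_dvd_coprimes (Nat.Coprime.pow_left f
        (h.prime.coprime_iff_not_dvd.2 h.not_dvd.1)) ?_ (hNc ▸ N.orderOf_dvd_natCard hn)))
      rw [← h.card_sylow P]
      exact Subgroup.orderOf_dvd_natCard _ hnP
    haveI := Fintype.ofFinite (P : Subgroup G)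
    haveI := Fintype.ofFinite N
    have hbij : Function.Bijective φ := by
      refine (Fintype.bijective_iff_injective_and_card _).2 ⟨hφ, ?_⟩
      rw [← Nat.card_eq_fintype_card, h.card_sylow P, Fintype.card_subtype_compl,
        Fintype.card_subtype_eq, ← Nat.card_eq_fintype_card, hNc, Nat.add_sub_cancel]
    obtain ⟨u, hu⟩ := hbij.2 ⟨⟨m, hm⟩, fun e => hm1 (congrArg Subtype.val e)⟩
    exact ⟨u, u.2, congrArg Subtype.val (congrArg Subtype.val hu)⟩
  have hq := h.q_ge
  have hqm := h.q_mod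
  obtain ⟨s, hs, hsd⟩ := Nat.exists_prime_and_dvd (show (p ^ f + 1) / 2 ≠ 1 by omega)
  have hs2 : s ≠ 2 := fun e => by subst e; omega
  haveI := Fact.mk hs
  obtain ⟨x, hx⟩ := exists_prime_orderOf_dvd_card' (G := N) s
    (hNc ▸ hsd.trans (Nat.div_dvd_of_dvd (by omega)))
  obtain ⟨t, ht⟩ := exists_prime_orderOf_dvd_card' (G := N) 2 (by omega)
  have h1 : ∀ y : N, orderOf y ≠ 1 → (y : G) ≠ 1 := fun y hy e => hy (orderOf_eq_one_iff.2 (Subtype.ext e))
  obtain ⟨u, -, hu⟩ := horb (x : G) x.2 (h1 x (by rw [hx]; exact hs.ne_one)) (t : G) t.2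
    (h1 t (by rw [ht]; norm_num))
  refine hs2 ?_
  rw [← hx, ← ht, ← Subgroup.orderOf_coe x, ← Subgroup.orderOf_coe t, ← hu, ← MulAut.conj_apply,
    MulEquiv.orderOf_eq]

/-- The Zassenhaus group on the Sylow subgroups. -/
theorem isZassenhaus (h : Data G p f) : Cfsg.IsZassenhausGroup G (Sylow p G) := by
  refine ⟨h.faithful, h.two_pretransitive, h.fix_three, ?_, h.exists_stabilizer_ne_bot⟩
  obtain ⟨a⟩ : Nonempty (Sylow p G) := inferInstance
  obtain ⟨b, hb⟩ := h.exists_ne_sylow a
  obtain ⟨x, hx, hx1⟩ := (Subgroup.bot_or_exists_ne_one (stabilizer G a ⊓ stabilizer G b)).resolve_left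
    fun e => by
      have h1 := h.le_card_stabilizer (Ne.symm hb)
      rw [e, Subgroup.card_bot] at h1
      have := h.q_ge
      omega
  exact ⟨x, hx1, a, b, Ne.symm hb, hx.1, hx.2⟩

end Data

/-- The group is `PSL(2, q)`. -/
theorem nonempty_equiv {F : Type*} [Field F] [Fintype F] (hp : p.Prime)
    (hq : Fintype.card F = p ^ f) (h : Data G p f) : Nonempty (G ≃* PSL(2, F)) := by
  classical
  haveI := Fact.mk hp
  haveI := Fintype.ofFinite (Sylow p G)
  have hZ := h.isZassenhaus
  obtain ⟨a⟩ : Nonempty (Sylow p G) := inferInstance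
  have hn : Fintype.card (Sylow p G) = p ^ f + 1 := by
    rw [← Nat.card_eq_fintype_card]; exact (h.sylow_data a).1
  have hle : (a : Subgroup G) ≤ stabilizer G a := fun u hu => Data.smul_self hu
  have hnor : ((a : Subgroup G).subgroupOf (stabilizer G a)).Normal :=
    (Subgroup.normal_subgroupOf_iff_le_normalizer hle).2 fun g hg =>
      Sylow.smul_eq_iff_mem_normalizer.1 hg
  have hreg : ∀ y z : Sylow p G, y ≠ a → z ≠ a → ∃! u : (a : Subgroup G), (u : G) • y = z :=
    fun y z => h.existsUnique_smul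
  have hab : IsMulCommutative (a : Subgroup G) :=
    ⟨⟨fun x y => Subtype.ext (h.comm a x.1 x.2 y.1 y.2)⟩⟩
  rcases Cfsg.Agent.S0731.result hZ a (a : Subgroup G) hle hnor hab hreg with
    ⟨h3, hstab⟩ | ⟨K, iK, iKf, hK2, ⟨e⟩⟩
  · exfalso
    haveI := h3
    have hq' := h.q_ge
    obtain ⟨t⟩ : Nonempty (Fin 3 ↪ Sylow p G) :=
      Function.Embedding.nonempty_of_card_le (by rw [Fintype.card_fin, hn]; omega)
    have h4 := index_stabilizer_of_transitive G t
    rw [hstab t, Subgroup.index_bot, Nat.card_eq_fintype_card (α := Fin 3 ↪ Sylow p G),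
      Fintype.card_embedding_eq, Fintype.card_fin, hn] at h4
    have h5 : (p ^ f + 1).descFactorial 3 = p ^ f * ((p ^ f - 1) * (p ^ f + 1)) := by
      simp [Nat.descFactorial_succ]
      ring
    have h6 := h.card
    rw [h4, h5] at h6
    have : 0 < p ^ f * ((p ^ f - 1) * (p ^ f + 1)) :=
      Nat.mul_pos (by omega) (Nat.mul_pos (by omega) (by omega))
    omega
  · have hKodd : Odd (Fintype.card K) := Nat.odd_iff.2 (FiniteField.odd_card_of_char_ne_two hK2)
    have h1 := CfsgLib.Linear.card_PSL_two_odd hKodd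
    rw [← Nat.card_congr e.toEquiv, h.card] at h1
    have hsq : ∀ m : ℕ, m * ((m - 1) * (m + 1)) = m * (m ^ 2 - 1) := fun m => by
      rw [mul_comm (m - 1), ← Nat.sq_sub_sq, one_pow]
    rw [← hq, hsq] at h1
    have mono : ∀ a b : ℕ, 2 ≤ a → a < b → a * (a ^ 2 - 1) < b * (b ^ 2 - 1) := fun a b ha hab =>
      Nat.mul_lt_mul_of_lt_of_le hab (Nat.sub_le_sub_right (Nat.pow_le_pow_left hab.le 2) 1)
        (by have : 2 ^ 2 ≤ b ^ 2 := Nat.pow_le_pow_left (by omega) 2; omega)
    have hKF : Fintype.card K = Fintype.card F := by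
      rcases Nat.lt_trichotomy (Fintype.card K) (Fintype.card F) with hl | hl | hl
      · exact absurd h1.symm (mono _ _ Fintype.one_lt_card hl).ne
      · exact hl
      · exact absurd h1 (mono _ _ Fintype.one_lt_card hl).ne
    exact ⟨e.trans (CfsgLib.Linear.pslFieldCongr hKF)⟩

end CfsgLib.PSLTwoCC
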