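import Cfsg.Agent.Characters.DefectZero
import Cfsg.Agent.Characters.Orthogonality
import Cfsg.Agent.Characters.Integrality
import Cfsg.Agent.Characters.Linear
import Cfsg.Agent.PSLTwoCC.Main

/-!
# Character degrees forcing self-centralising Sylow subgroups

If, in a group of order `q (q² - 1) / 2`, every non-trivial irreducible degree is divisible by `q`, `q - 1` or
`(q + 1) / 2`, then column orthogonality forbids an element of order `p r`.
-/

set_option autoImplicit false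
set_option linter.style.haveILetI false
set_option linter.unusedSectionVars false

namespace CfsgLib.PSLTwoCC

open CfsgLib.Characters

variable {G : Type*} [Group G] [Fintype G]

/-- No column is supported by the trivial character and characters of degree divisible by `m ≥ 2`. -/
theorem false_of_column {g : G} (hg : g ≠ 1) {m : ℕ} (hm : 2 ≤ m)
    (h : ∀ χ : Cfsg.IrrCharacter G, (χ : G → ℂ) = (fun _ => 1) ∨ (χ : G → ℂ) g = 0 ∨
      ∃ k : ℕ, (χ : G → ℂ) 1 = ((m * k : ℕ) : ℂ)) : False := by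
  classical
  have hcol := sum_degree_mul g
  rw [if_neg hg, Finset.sum_eq_add_sum_sdiff_singleton_of_mem
    (Finset.mem_univ (⟨_, isIrr_one⟩ : Cfsg.IrrCharacter G)), one_mul] at hcol
  set S := (Finset.univ : Finset (Cfsg.IrrCharacter G)) \ {⟨_, isIrr_one⟩}
  have hk : ∀ χ ∈ S, ∃ k : ℕ, (χ : G → ℂ) 1 * (χ : G → ℂ) g = (m : ℂ) * ((k : ℂ) * (χ : G → ℂ) g) := by
    intro χ hχ
    rcases h χ with e | e | ⟨k, e⟩
    · rw [Finset.mem_sdiff, Finset.mem_singleton] at hχ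
      exact absurd (Subtype.ext e) hχ.2
    · exact ⟨0, by simp [e]⟩
    · exact ⟨k, by rw [e, Nat.cast_mul, mul_assoc]⟩
  choose! k hk using hk
  rw [Finset.sum_congr rfl hk, ← Finset.mul_sum] at hcol
  set a := ∑ χ ∈ S, (k χ : ℂ) * (χ : G → ℂ) g with ha
  have hint : IsIntegral ℤ a := IsIntegral.sum _ fun χ _ =>
    IsIntegral.mul
      (by simpa using (isIntegral_algebraMap : IsIntegral ℤ (algebraMap ℤ ℂ (k χ : ℤ))))
      (character_isIntegral (isCharacter_of_isIrr χ.2) g)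
  have hm0 : (m : ℂ) ≠ 0 := Nat.cast_ne_zero.2 (by omega)
  have h1 : ((1 : ℕ) : ℂ) / m = -a := by
    rw [div_eq_iff hm0]
    push_cast
    linear_combination hcol
  have := Nat.le_of_dvd one_pos (dvd_of_isIntegral_div (by omega) (h1 ▸ hint.neg))
  omega

/-- An irreducible character whose degree contains the `r`-part of the order vanishes at `r`-singular
elements. -/
theorem eq_zero_of_full {χ : Cfsg.IrrCharacter G} {r e d : ℕ} (hr : r.Prime) (hd : (χ : G → ℂ) 1 = (d : ℂ))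
    (hG : r ^ e ∣ Nat.card G) (hG' : ¬ r ^ (e + 1) ∣ Nat.card G) (hed : r ^ e ∣ d) {g : G}
    (hg : r ∣ orderOf g) : (χ : G → ℂ) g = 0 := by
  obtain ⟨n, ρ, hirr, hρ⟩ := χ.2
  haveI := hirr
  rw [← hρ] at hd ⊢
  rw [Representation.char_one, Nat.cast_inj] at hd
  exact char_eq_zero_of_defect_zero ρ hr hG hG' (hd ▸ hed) g hg

/-- A centraliser of an element of order `p` is a `p`-group. -/
theorem isPGroup_centralizer {p f : ℕ} (hp : p.Prime) (hqm : p ^ f % 4 = 1) (hq5 : 5 ≤ p ^ f)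
    (hcard : 2 * Nat.card G = p ^ f * ((p ^ f - 1) * (p ^ f + 1)))
    (hdeg : ∀ χ : Cfsg.IrrCharacter G, (χ : G → ℂ) = (fun _ => 1) ∨ ∃ d : ℕ, (χ : G → ℂ) 1 = (d : ℂ) ∧
      (p ^ f ∣ d ∨ p ^ f - 1 ∣ d ∨ (p ^ f + 1) / 2 ∣ d))
    (u : G) (hu : orderOf u = p) : IsPGroup p (Subgroup.centralizer ({u} : Set G)) := by
  haveI := Fact.mk hp
  refine IsPGroup.of_card (n := (Nat.card (Subgroup.centralizer ({u} : Set G))).primeFactorsList.length)
    (Nat.eq_prime_pow_of_unique_prime_dvd Nat.card_pos.ne' fun {r} hr hrd => ?_)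
  by_contra hrp
  haveI := Fact.mk hr
  obtain ⟨y, hy⟩ := exists_prime_orderOf_dvd_card' r hrd
  rw [← Subgroup.orderOf_coe] at hy
  have hg : orderOf (u * (y : G)) = p * r := by
    rw [Commute.orderOf_mul_eq_mul_orderOf_of_coprime
      (Subgroup.mem_centralizer_singleton_iff.1 y.2).symm (by
        rw [hu, hy]; exact (Nat.coprime_primes hp hr).2 (Ne.symm hrp)), hu, hy]
  set g := u * (y : G)
  have hg1 : g ≠ 1 := fun e => by
    rw [e, orderOf_one] at hg
    exact hp.ne_one (Nat.eq_one_of_mul_eq_one_right hg.symm)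
  set q := p ^ f with hq
  obtain ⟨m, hm⟩ : ∃ m, q = 4 * m + 1 := ⟨q / 4, by omega⟩
  rw [hm, show (4 * m + 1 + 1) / 2 = 2 * m + 1 by omega, Nat.add_sub_cancel] at hdeg
  have hG : Nat.card G = q * (4 * m * (2 * m + 1)) := by
    refine Nat.eq_of_mul_eq_mul_left two_pos ?_
    rw [hcard, hm, Nat.add_sub_cancel]; ring
  -- full parts
  have hfull : ∀ {s a b : ℕ}, s.Prime → Nat.card G = a * b → ¬ s ∣ b →
      ∃ e, s ^ e ∣ Nat.card G ∧ ¬ s ^ (e + 1) ∣ Nat.card G ∧ s ^ e ∣ a := by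
    intro s a b hs hab hsb
    have ha : a ≠ 0 := fun e => by rw [e, zero_mul] at hab; exact Nat.card_pos.ne' hab
    refine ⟨a.factorization s, hab ▸ (Nat.ordProj_dvd a s).mul_right b, fun hd => ?_,
      Nat.ordProj_dvd a s⟩
    rw [hab] at hd
    exact Nat.pow_succ_factorization_not_dvd ha hs
      (((hs.coprime_iff_not_dvd.2 hsb).pow_left _).dvd_of_dvd_mul_right hd)
  have hf : f ≠ 0 := fun e => by rw [hq, e, pow_zero] at hq5; omega
  have hpq : p ∣ q := dvd_pow_self p hf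
  have hpn : ¬ p ∣ 4 * m * (2 * m + 1) := by
    intro hd
    rcases hp.dvd_mul.1 hd with h | h
    · exact hp.not_dvd_one ((Nat.dvd_add_right h).1 (hm ▸ hpq))
    · have h2 := Nat.dvd_sub (h.mul_left 2) (hm ▸ hpq : p ∣ 4 * m + 1)
      rw [show 2 * (2 * m + 1) - (4 * m + 1) = 1 by omega] at h2
      exact hp.not_dvd_one h2
  obtain ⟨e, he, he', heq⟩ := hfull hp hG hpn
  have hrG : r ∣ 4 * m * (2 * m + 1) := by
    have h1 : r ∣ q * (4 * m * (2 * m + 1)) := hG ▸ hrd.trans (Subgroup.card_subgroup_dvd_card _)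
    exact (hr.dvd_mul.1 h1).resolve_left fun h =>
      hrp ((Nat.prime_dvd_prime_iff_eq hr hp).1 (hr.dvd_of_dvd_pow h))
  have hrq : ¬ r ∣ q := fun h => hrp ((Nat.prime_dvd_prime_iff_eq hr hp).1 (hr.dvd_of_dvd_pow h))
  have hpart : (r ∣ 4 * m ∧ ¬ r ∣ q * (2 * m + 1)) ∨ (r ∣ 2 * m + 1 ∧ ¬ r ∣ q * (4 * m)) := by
    have hno : ¬ (r ∣ 4 * m ∧ r ∣ 2 * m + 1) := fun ⟨h1, h2⟩ => by
      have h3 := Nat.dvd_sub (h2.mul_left 2) h1
      rw [show 2 * (2 * m + 1) - 4 * m = 2 by omega] at h3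
      rw [(Nat.prime_dvd_prime_iff_eq hr Nat.prime_two).1 h3] at h2
      omega
    rcases hr.dvd_mul.1 hrG with h | h
    · exact Or.inl ⟨h, fun h' => (hr.dvd_mul.1 h').elim hrq fun h'' => hno ⟨h, h''⟩⟩
    · exact Or.inr ⟨h, fun h' => (hr.dvd_mul.1 h').elim hrq fun h'' => hno ⟨h'', h⟩⟩
  have hpg : p ∣ orderOf g := hg ▸ dvd_mul_right p r
  have hrg : r ∣ orderOf g := hg ▸ dvd_mul_left r p
  rcases hpart with ⟨-, hnot⟩ | ⟨-, hnot⟩
  · obtain ⟨e₂, he₂, he₂', hem⟩ := hfull hr (a := 4 * m) (b := q * (2 * m + 1)) (by rw [hG]; ring) hnot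
    refine false_of_column hg1 (m := 2 * m + 1) (by omega) fun χ => ?_
    rcases hdeg χ with h | ⟨d, hd, h | h | ⟨k, hk⟩⟩
    · exact Or.inl h
    · exact Or.inr (Or.inl (eq_zero_of_full hp hd he he' (heq.trans (hm ▸ h)) hpg))
    · exact Or.inr (Or.inl (eq_zero_of_full hr hd he₂ he₂' (hem.trans h) hrg))
    · exact Or.inr (Or.inr ⟨k, by rw [hd, hk]⟩)
  · obtain ⟨e₂, he₂, he₂', hem⟩ := hfull hr (a := 2 * m + 1) (b := q * (4 * m)) (by rw [hG]; ring) hnot
    refine false_of_column hg1 (m := 4 * m) (by omega) fun χ => ?_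
    rcases hdeg χ with h | ⟨d, hd, h | ⟨k, hk⟩ | h⟩
    · exact Or.inl h
    · exact Or.inr (Or.inl (eq_zero_of_full hp hd he he' (heq.trans (hm ▸ h)) hpg))
    · exact Or.inr (Or.inr ⟨k, by rw [hd, hk]⟩)
    · exact Or.inr (Or.inl (eq_zero_of_full hr hd he₂ he₂' (hem.trans h) hrg))

/-- Sylow subgroups of order `p²` are abelian. -/
theorem commute_of_sq {p : ℕ} [Fact p.Prime] (hp2 : p ≠ 2)
    (hcard : 2 * Nat.card G = p ^ 2 * ((p ^ 2 - 1) * (p ^ 2 + 1))) (P : Sylow p G) :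
    ∀ x ∈ (P : Subgroup G), ∀ y ∈ (P : Subgroup G), x * y = y * x := by
  have hp : p.Prime := Fact.out
  obtain ⟨n, hn⟩ := IsPGroup.iff_card.1 P.isPGroup'
  have hd : p ∣ p ^ 2 := dvd_pow_self p two_ne_zero
  have h1 : 1 ≤ p ^ 2 := Nat.one_le_pow _ _ hp.pos
  have hcop : Nat.Coprime p ((p ^ 2 - 1) * (p ^ 2 + 1)) :=
    Nat.Coprime.mul_right (hp.coprime_iff_not_dvd.2 fun h => hp.not_dvd_one (by
        have := Nat.dvd_sub hd h
        rwa [Nat.sub_sub_self h1] at this))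
      (hp.coprime_iff_not_dvd.2 fun h => hp.not_dvd_one ((Nat.dvd_add_right hd).1 h))
  have hc := hcard
  rw [← (P : Subgroup G).card_mul_index, hn] at hc
  have hn2 : p ^ n = p ^ 2 := by
    refine Nat.dvd_antisymm ?_ ?_
    · refine (Nat.Coprime.pow_left n hcop).dvd_of_dvd_mul_right ?_
      rw [← hc]
      exact (dvd_mul_right _ _).mul_left _
    · refine (Nat.Coprime.pow_left 2 (((Nat.coprime_primes hp Nat.prime_two).2 hp2).mul_right
        (hp.coprime_iff_not_dvd.2 P.not_dvd_index))).dvd_of_dvd_mul_right ?_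
      rw [show p ^ n * (2 * (P : Subgroup G).index) = 2 * (p ^ n * (P : Subgroup G).index) by ring, hc]
      exact dvd_mul_right _ _
  intro x hx y hy
  haveI := IsPGroup.isMulCommutative_of_card_eq_prime_sq (hn.trans hn2)
  exact congrArg Subtype.val (mul_comm' (⟨x, hx⟩ : (P : Subgroup G)) ⟨y, hy⟩)

end CfsgLib.PSLTwoCC
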