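import Cfsg.Agent.SL2CharTable.Final
import Cfsg.Agent.Linear.Perfect
import Cfsg.Agent.Characters.Linear
import Cfsg.Agent.S0496
import Cfsg.Agent.Small.CosetRep
import Cfsg.Agent.Classification.SimpleSixty
import Cfsg.Agent.PSLTwoCC.Column

/-!
# Recognising `PSL(2, p²)` from the first column of its character table
-/

set_option autoImplicit false
set_option linter.style.haveILetI false
set_option linter.unusedSectionVars false

namespace CfsgLib.PSLTwoCC

open CfsgLib.Characters CfsgLib.SL2CharTable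
open scoped MatrixGroups

/-- The irreducible degrees of `PSL(2, q)`, `q ≡ 1 (mod 4)`. -/
theorem degree_cases {F : Type*} [Field F] [Fintype F] (hq : Fintype.card F % 4 = 1) {n : ℕ}
    (χ : Cfsg.IrrCharacter PSL(2, F)) (hn : (χ : PSL(2, F) → ℂ) 1 = (n : ℂ)) :
    n = 1 ∨ Fintype.card F ∣ n ∨ Fintype.card F - 1 ∣ n ∨ (Fintype.card F + 1) / 2 ∣ n := by
  classical
  obtain ⟨Tr, h2, ⟨H⟩⟩ := exists_table (F := F) (Nat.odd_iff.2 (by omega))
  let π := QuotientGroup.mk' (Subgroup.center SL(2, F))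
  let χ' : PSL(2, F) → ℂ := χ
  have hirr := isIrr_comp π (QuotientGroup.mk'_surjective _) χ.2
  have hneg : χ' (π (-1)) = χ' (π 1) := by
    rw [show π (-1) = π 1 from (QuotientGroup.eq (s := Subgroup.center SL(2, F))).2 ?_]
    exact mul_mem (inv_mem ((SL2Trace.mem_center_iff_eq _).2 (Or.inr rfl))) (one_mem _)
  have hn' : χ' (π 1) = (n : ℂ) := hn
  have hq1 := Fintype.one_lt_card (α := F)
  have hhalf : ∀ ψ : SL(2, F) → ℂ, (ψ = H.ψ₁ ∨ ψ = H.ψ₂) → ψ (-1) = ψ 1 → False := by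
    have hsq : IsSquare ((-1 : Fˣ) : F) := by
      rw [Units.val_neg, Units.val_one]
      exact FiniteField.isSquare_neg_one_iff.2 (by omega)
    intro ψ hψ e
    have hs : (H.θ Tr.negT : ℂ) = -1 := by rw [H.sign, (H.α_apply _).1 hsq]
    have hhalf0 : (((Fintype.card F - 1) / 2 : ℕ) : ℂ) ≠ 0 := Nat.cast_ne_zero.2 (by omega)
    rcases hψ with rfl | rfl
    · rw [H.ψ_neg_one.1, hs, H.ψ₁_one] at e
      exact hhalf0 (by linear_combination (-1 / 2 : ℂ) * e)
    · rw [H.ψ_neg_one.2, hs, H.ψ₂_one] at e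
      exact hhalf0 (by linear_combination (-1 / 2 : ℂ) * e)
  rcases H.cases hirr with ⟨-, e⟩ | ⟨-, e⟩ | ⟨_, -, -, e⟩ | ⟨_, -, -, e⟩ | ⟨-, e⟩ | ⟨h, -⟩
  · exact Or.inl (Nat.cast_injective (hn'.symm.trans e))
  · exact Or.inr (Or.inl (dvd_of_eq (Nat.cast_injective (hn'.symm.trans e)).symm))
  · refine Or.inr (Or.inr (Or.inr ?_))
    rw [Nat.cast_injective (hn'.symm.trans e)]
    exact Nat.div_dvd_of_dvd (by omega)
  · exact Or.inr (Or.inr (Or.inl (dvd_of_eq (Nat.cast_injective (hn'.symm.trans e)).symm)))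
  · exact Or.inr (Or.inr (Or.inr (dvd_of_eq (Nat.cast_injective (hn'.symm.trans e)).symm)))
  · exact (hhalf _ h hneg).elim

/-- A non-abelian simple group has one linear character. -/
theorem card_linear_of_simple {G : Type*} [Group G] [Finite G] [IsSimpleGroup G]
    (hG : ¬ IsMulCommutative G) : Nat.card {χ : Cfsg.IrrCharacter G // (χ : G → ℂ) 1 = 1} = 1 := by
  rw [card_linear_char, Subgroup.index_eq_one]
  refine ((inferInstance : (commutator G).Normal).eq_bot_or_eq_top).resolve_left fun e => hG ?_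
  exact ⟨⟨fun a b => commutatorElement_eq_one_iff_mul_comm.1
    (Subgroup.mem_bot.1 (e ▸ Subgroup.commutator_mem_commutator (Subgroup.mem_top a) (Subgroup.mem_top b)))⟩⟩

/-- A perfect group of order 60 is simple. -/
theorem isSimpleGroup_of_perfect_sixty {G : Type*} [Group G] [Finite G] (h : Nat.card G = 60)
    (hperf : commutator G = ⊤) : IsSimpleGroup G := by
  haveI : Nontrivial G := Finite.one_lt_card_iff_nontrivial.1 (by rw [h]; norm_num)
  obtain ⟨N, hN⟩ := Set.Finite.exists_maximal (Set.toFinite {N : Subgroup G | N.Normal ∧ N ≠ ⊤})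
    ⟨⊥, inferInstance, bot_ne_top⟩
  haveI := hN.prop.1
  haveI : Nontrivial (G ⧸ N) := QuotientGroup.nontrivial_iff.2 hN.prop.2
  have hsurj := QuotientGroup.mk'_surjective N
  haveI : IsSimpleGroup (G ⧸ N) := ⟨fun H hH => by
    by_cases ht : H.comap (QuotientGroup.mk' N) = ⊤
    · exact Or.inr (Subgroup.comap_injective hsurj (ht.trans (Subgroup.comap_top _).symm))
    · refine Or.inl (Subgroup.comap_injective hsurj ?_)
      rw [MonoidHom.comap_bot, QuotientGroup.ker_mk']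
      exact le_antisymm (hN.le_of_ge ⟨hH.comap _, ht⟩ (QuotientGroup.le_comap_mk' N H))
        (QuotientGroup.le_comap_mk' N H)⟩
  have hna : ¬ IsMulCommutative (G ⧸ N) := fun hc => by
    haveI := hc
    refine hN.prop.2 (top_unique ?_)
    rw [← hperf]
    exact (Subgroup.Normal.quotient_commutative_iff_commutator_le).1 hc
  have hd : Nat.card (G ⧸ N) ∣ 60 := h ▸ N.card_quotient_dvd_card
  have hle : Nat.card (G ⧸ N) ≤ 60 := Nat.le_of_dvd (by norm_num) hd
  have h60 : Nat.card (G ⧸ N) = 60 := by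
    rcases Cfsg.Agent.S0496.result hna (by omega) with e | e | e | e | e | e <;> omega
  have hbot : N = ⊥ := Subgroup.eq_bot_of_card_eq N (by
    have h1 := N.card_eq_card_quotient_mul_card_subgroup
    rw [h, h60] at h1
    omega)
  exact IsSimpleGroup.isSimpleGroup_of_surjective
    (f := ((QuotientGroup.quotientMulEquivOfEq hbot).trans QuotientGroup.quotientBot).toMonoidHom)
    (MulEquiv.surjective _)

/-- `PSL(2, p²)` is determined by the degrees of its irreducible characters with multiplicities. -/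
theorem nonempty_equiv_of_degrees {F : Type*} [Field F] [Fintype F] {p : ℕ} (hp : p.Prime)
    (hF : Fintype.card F = p ^ 2) {G : Type*} [Group G] [Finite G]
    (h : ∀ d : ℕ, Nat.card {χ : Cfsg.IrrCharacter G // (χ : G → ℂ) 1 = (d : ℂ)} =
      Nat.card {χ : Cfsg.IrrCharacter PSL(2, F) // (χ : PSL(2, F) → ℂ) 1 = (d : ℂ)}) :
    Nonempty (G ≃* PSL(2, F)) := by
  classical
  haveI := Fintype.ofFinite G
  haveI := Fintype.ofFinite PSL(2, F)
  haveI := Fact.mk hp
  choose dG hdG0 hdG using fun χ : Cfsg.IrrCharacter G => exists_degree_pos χ.2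
  choose dH hdH0 hdH using fun χ : Cfsg.IrrCharacter PSL(2, F) => exists_degree_pos χ.2
  have h4 : 4 ≤ Fintype.card F := hF ▸ Nat.pow_le_pow_left hp.two_le 2
  haveI : IsSimpleGroup PSL(2, F) := CfsgLib.Linear.isSimpleGroup_PSL_of 2 le_rfl fun _ => h4
  have hcH : Nat.gcd 2 (Fintype.card F - 1) * Nat.card PSL(2, F) =
      Fintype.card F * (Fintype.card F ^ 2 - 1) := CfsgLib.Linear.card_PSL_two_mul
  -- the orders agree
  have hfib : ∀ d : ℕ, Nonempty ({χ : Cfsg.IrrCharacter G // dG χ = d} ≃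
      {χ : Cfsg.IrrCharacter PSL(2, F) // dH χ = d}) := fun d => Finite.card_eq.1 (by
    rw [Nat.card_congr (Equiv.subtypeEquivRight fun χ => (by rw [hdG, Nat.cast_inj] :
        dG χ = d ↔ (χ : G → ℂ) 1 = (d : ℂ))),
      Nat.card_congr (Equiv.subtypeEquivRight fun χ => (by rw [hdH, Nat.cast_inj] :
        dH χ = d ↔ (χ : PSL(2, F) → ℂ) 1 = (d : ℂ)))]
    exact h d)
  set e := Equiv.ofFiberEquiv fun d => (hfib d).some
  have hed : ∀ χ, dH (e χ) = dG χ := fun χ => Equiv.ofFiberEquiv_map _ χ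
  have hc : Nat.card G = Nat.card PSL(2, F) := by
    have h1 : (Nat.card G : ℂ) = (Nat.card PSL(2, F) : ℂ) := by
      rw [← sum_degree_sq, ← sum_degree_sq]
      exact Fintype.sum_equiv e _ _ fun χ => by rw [hdG, hdH, hed]
    exact_mod_cast h1
  have hnaH : ¬ IsMulCommutative PSL(2, F) := fun hc' => by
    have hp' := CfsgLib.Small.card_prime_of_simple_comm hc'
    set q := Fintype.card F
    have hq3 : 3 ≤ q ^ 2 - 1 := by have : 4 ^ 2 ≤ q ^ 2 := Nat.pow_le_pow_left h4 2; omega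
    have hle : q * (q ^ 2 - 1) ≤ 2 * Nat.card PSL(2, F) :=
      hcH ▸ Nat.mul_le_mul_right _ (Nat.le_of_dvd two_pos (Nat.gcd_dvd_left _ _))
    have hdvd : q ∣ 2 * Nat.card PSL(2, F) := by
      refine dvd_trans (dvd_mul_right q (q ^ 2 - 1)) (hcH ▸ ?_)
      exact Nat.mul_dvd_mul_right (Nat.gcd_dvd_left _ _) _
    have hpd : p ^ 2 ∣ 2 * Nat.card PSL(2, F) := hF ▸ hdvd
    rcases Nat.coprime_or_dvd_of_prime hp' q with hcop | hd
    · have := Nat.le_of_dvd two_pos ((Nat.Coprime.symm hcop).dvd_of_dvd_mul_right hdvd)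
      omega
    · have e1 := (Nat.prime_dvd_prime_iff_eq hp' hp).1 (hp'.dvd_of_dvd_pow (hF ▸ hd))
      rw [e1] at hle
      have hmul : q * 3 ≤ q * (q ^ 2 - 1) := Nat.mul_le_mul_left q hq3
      have hpq : p * 2 ≤ q := by
        rw [hF, sq]
        exact Nat.mul_le_mul_left p hp.two_le
      omega
  have hlin : Nat.card {χ : Cfsg.IrrCharacter G // (χ : G → ℂ) 1 = 1} = 1 := by
    have := h 1
    rw [Nat.cast_one] at this
    rw [this]
    exact card_linear_of_simple hnaH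
  by_cases hp2 : p = 2
  · subst hp2
    have hq4 : Fintype.card F = 4 := hF
    have h60 : Nat.card G = 60 := by
      rw [hc, CfsgLib.Linear.card_PSL_two_even (by rw [hq4]; decide), hq4]
      norm_num
    haveI := isSimpleGroup_of_perfect_sixty h60 (Subgroup.index_eq_one.1 (card_linear_char.symm.trans hlin))
    obtain ⟨e₁⟩ := CfsgLib.Classification.nonempty_equiv_alternating_five (G := G) h60
    obtain ⟨e₂⟩ := CfsgLib.Classification.nonempty_equiv_alternating_five (G := PSL(2, F)) (hc ▸ h60)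
    exact ⟨e₁.trans e₂.symm⟩
  have hqm : p ^ 2 % 4 = 1 := by
    obtain ⟨k, rfl⟩ := hp.odd_of_ne_two hp2
    ring_nf; omega
  have hq5 : 5 ≤ p ^ 2 := by
    have := Nat.pow_le_pow_left (show 3 ≤ p by have := hp.two_le; omega) 2
    omega
  have hcard : 2 * Nat.card G = p ^ 2 * ((p ^ 2 - 1) * (p ^ 2 + 1)) := by
    rw [hc, CfsgLib.Linear.card_PSL_two_odd (Nat.odd_iff.2 (by omega)), hF,
      mul_comm (p ^ 2 - 1), ← Nat.sq_sub_sq, one_pow]
  have hdeg : ∀ χ : Cfsg.IrrCharacter G, (χ : G → ℂ) = (fun _ => 1) ∨ ∃ d : ℕ,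
      (χ : G → ℂ) 1 = (d : ℂ) ∧ (p ^ 2 ∣ d ∨ p ^ 2 - 1 ∣ d ∨ (p ^ 2 + 1) / 2 ∣ d) := by
    intro χ
    rcases degree_cases (hF ▸ hqm) (e χ) (hdH _) with h1 | h1
    · left
      obtain ⟨hsub, -⟩ := Nat.card_eq_one_iff_unique.1 hlin
      exact congrArg (fun x : {χ : Cfsg.IrrCharacter G // (χ : G → ℂ) 1 = 1} => (x.1 : G → ℂ))
        (hsub.elim ⟨χ, by rw [hdG, ← hed, h1, Nat.cast_one]⟩ ⟨⟨_, isIrr_one⟩, rfl⟩)
    · rw [hed, hF] at h1
      exact Or.inr ⟨dG χ, hdG χ, h1⟩
  exact nonempty_equiv hp hF ⟨hp, hqm, hq5, hcard, commute_of_sq hp2 hcard,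
    fun u hu => isPGroup_centralizer hp hqm hq5 hcard hdeg u hu⟩

end CfsgLib.PSLTwoCC
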